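import Groth.Agent.GIT36.AffQuot.Global
import Groth.Agent.GIT36.LinRedChar0.Geom
import Groth.Agent.LinRed34.FiniteType

/-!
Affine quotients by connected reductive groups in characteristic zero.
-/

set_option autoImplicit false
set_option linter.unusedSectionVars false
set_option linter.style.haveILetI false
set_option backward.isDefEq.respectTransparency.types false

universe u

open CategoryTheory CategoryTheory.Limits MonoidalCategory CartesianMonoidalCategory MonObj GrpObj AlgebraicGeometry Topology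
open scoped TensorProduct
open Groth.Agent.FinSub96
open WithConv TensorProduct

noncomputable section

namespace Groth.Agent.GIT36.AffQuot

open H98EqInt

variable {k : Type u} [Field k]

/-- coordinates of a connected reductive group in characteristic zero are linearly reductive -/
theorem exists_coord_linRed [CharZero k] (G : Over (Spec (CommRingCat.of k))) [GrpObj G] (hG : Red.IsReductive G) :
    ∃ (A : Type u) (_ : CommRing A) (_ : HopfAlgebra k A) (ψ : GMod80.sp k A ≅ G),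
      IsMonHom ψ.hom ∧ Algebra.FiniteType k A ∧ HopfRep.IsLinearlyReductive k A := by
  haveI := hG.1
  haveI : IsAffine G.left := isAffine_of_isAffineHom G.hom
  haveI := hG.2.1
  obtain ⟨A, _, _, ψ, hψ⟩ := GMod80.exists_coord G
  haveI := hψ
  haveI : Algebra.FiniteType k A := GMod80.finiteType ψ
  let S := Spec (CommRingCat.of k)
  obtain ⟨s⟩ : Nonempty (PrimeSpectrum k) := inferInstance
  have hs := hG.2.2 s
  let L := AlgebraicClosure (S.residueField s)
  obtain ⟨φ, hφ⟩ : ∃ φ, Spec.map φ = Red.geomPt (S := S) s := ⟨Spec.preimage _, Spec.map_preimage _⟩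
  letI : Algebra k L := φ.hom.toAlgebra
  haveI : CharZero L := charZero_of_injective_algebraMap (algebraMap k L).injective
  have hs' : Red.IsReductiveOver L (Red.bc (LinRedChar0.bm k L) G) := by
    change Red.IsReductiveOver L (Red.bc (Spec.map φ) G)
    rw [hφ]
    exact hs
  let ψL := LinRedChar0.bcIso k L A ≪≫ (Over.pullback (LinRedChar0.bm k L)).mapIso ψ
  haveI : IsMonHom ψL.hom := by
    haveI : IsMonHom ((Over.pullback (LinRedChar0.bm k L)).map ψ.hom) := inferInstance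
    show IsMonHom ((LinRedChar0.bcIso k L A).hom ≫ (Over.pullback (LinRedChar0.bm k L)).map ψ.hom)
    infer_instance
  exact ⟨A, inferInstance, inferInstance, ψ, hψ, inferInstance,
    (S18813.result k L A).2 (LinRedChar0.isLinearlyReductive_of_isReductiveOver ψL hs')⟩

variable {G : Over (Spec (CommRingCat.of k))} [GrpObj G]
  {A : Type u} [CommRing A] [HopfAlgebra k A] (ψ : GMod80.sp k A ≅ G) [IsMonHom ψ.hom]
  (hLR : HopfRep.IsLinearlyReductive k A)

section Exists

variable (X : Over (Spec (CommRingCat.of k))) [IsAffine X.left] (a : AlgGrp.Action G X)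

theorem appTop_inv_comp_ptMap {C : Type u} [CommRing C] [Algebra k C] (f : C →ₐ[k] Γ(X.left, ⊤)) (c : C) :
    ((chi X).inv ≫ VecGrp.ptMap f).left.appTop ((Scheme.ΓSpecIso (CommRingCat.of C)).inv c) = f c := by
  have h : (Spec.map (CommRingCat.ofHom f.toRingHom)).appTop ((Scheme.ΓSpecIso (CommRingCat.of C)).inv c) =
      (Scheme.ΓSpecIso Γ(X.left, ⊤)).inv (f c) :=
    (congr($(Scheme.ΓSpecIso_inv_naturality (CommRingCat.ofHom f.toRingHom)) c)).symm
  rw [show ((chi X).inv ≫ VecGrp.ptMap f).left = X.left.toSpecΓ ≫ Spec.map (CommRingCat.ofHom f.toRingHom) from rfl,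
    Scheme.Hom.comp_appTop, CommRingCat.comp_apply]
  refine (congrArg X.left.toSpecΓ.appTop h).trans ?_
  rw [Scheme.toSpecΓ_appTop]
  exact congr($((Scheme.ΓSpecIso Γ(X.left, ⊤)).inv_hom_id) (f c))

theorem affQ_of_algHom {C : Type u} [CommRing C] [Algebra k C] (f : C →ₐ[k] Γ(X.left, ⊤))
    (hinj : Function.Injective f) (hrange : ∀ r, Inv a r ↔ r ∈ Set.range f) :
    AffQ a ((chi X).inv ≫ VecGrp.ptMap f) := by
  haveI : IsAffine (VecGrp.pt k C).left := inferInstanceAs (IsAffine (Spec (CommRingCat.of C)))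
  have hbij := ConcreteCategory.bijective_of_isIso (Scheme.ΓSpecIso (CommRingCat.of C)).inv
  have happ := appTop_inv_comp_ptMap X f
  generalize (chi X).inv ≫ VecGrp.ptMap f = φ at happ ⊢
  have hinv : GIT.IsInvariant a φ := by
    apply Over.OverMorphism.ext
    apply ext_of_isAffine
    ext y
    obtain ⟨c, rfl⟩ := hbij.2 y
    rw [Over.comp_left, Over.comp_left, Scheme.Hom.comp_appTop, Scheme.Hom.comp_appTop,
      CommRingCat.comp_apply, CommRingCat.comp_apply, happ]
    exact (hrange _).2 ⟨c, rfl⟩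
  refine ⟨hinv, fun y y' hyy' => ?_, Set.Subset.antisymm ?_ fun r hr => ?_⟩
  · obtain ⟨c, rfl⟩ := hbij.2 y
    obtain ⟨c', rfl⟩ := hbij.2 y'
    rw [happ, happ] at hyy'
    rw [hinj hyy']
  · rintro _ ⟨y, rfl⟩
    exact inv_appTop hinv y
  · obtain ⟨c, hc⟩ := (hrange r).1 hr
    exact ⟨_, (happ c).trans hc⟩

include ψ in
theorem inv_iff_range (r : Γ(X.left, ⊤)) :
    letI := comod ψ a
    letI := isCoactAlg ψ a
    Inv a r ↔ r ∈ Set.range (GLin.invariants k A Γ(X.left, ⊤)).val := by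
  letI := comod ψ a
  letI := isCoactAlg ψ a
  exact ⟨fun h => ⟨⟨r, (inv_iff ψ a r).1 h⟩, rfl⟩, fun ⟨c, hc⟩ => hc ▸ (inv_iff ψ a _).2 c.2⟩

include ψ hLR in
/-- the spectrum of the invariants -/
theorem exists_affQ : ∃ (Y : Over (Spec (CommRingCat.of k))) (φ : X ⟶ Y), IsAffine Y.left ∧ AffQ a φ ∧
    (IsNoetherian X.left → IsNoetherian Y.left) ∧
      (LocallyOfFiniteType X.hom → LocallyOfFiniteType Y.hom) := by
  letI := comod ψ a
  haveI := isCoactAlg ψ a
  refine ⟨VecGrp.pt k (GLin.invariants k A Γ(X.left, ⊤)),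
    (chi X).inv ≫ VecGrp.ptMap (GLin.invariants k A Γ(X.left, ⊤)).val,
    inferInstanceAs (IsAffine (Spec (CommRingCat.of (GLin.invariants k A Γ(X.left, ⊤))))),
    affQ_of_algHom X a _ Subtype.val_injective (inv_iff_range ψ X a), fun hN => ?_, fun hF => ?_⟩
  · haveI := hN
    haveI : IsNoetherianRing Γ(X.left, ⊤) :=
      IsLocallyNoetherian.component_noetherian ⟨⊤, isAffineOpen_top X.left⟩
    haveI : IsNoetherianRing (GLin.invariants k A Γ(X.left, ⊤)) := LinRed34.isNoetherianRing_invariants hLR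
    exact inferInstanceAs (IsNoetherian (Spec (CommRingCat.of (GLin.invariants k A Γ(X.left, ⊤)))))
  · haveI := hF
    haveI : Algebra.FiniteType k Γ(X.left, ⊤) := by
      have h : LocallyOfFiniteType (Spec.map (CommRingCat.ofHom (algebraMap k Γ(X.left, ⊤)))) := by
        haveI : IsIso (chi X).hom.left := ((Over.forget _).mapIso (chi X)).isIso_hom
        have e : Spec.map (CommRingCat.ofHom (algebraMap k Γ(X.left, ⊤))) = (chi X).hom.left ≫ X.hom :=
          (Over.w (chi X).hom).symm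
        rw [e]
        infer_instance
      rw [HasRingHomProperty.Spec_iff (P := @LocallyOfFiniteType)] at h
      exact RingHom.finiteType_algebraMap.1 h
    haveI : Algebra.FiniteType k (GLin.invariants k A Γ(X.left, ⊤)) := LinRed34.finiteType_invariants hLR
    show LocallyOfFiniteType (Spec.map (CommRingCat.ofHom (algebraMap k (GLin.invariants k A Γ(X.left, ⊤)))))
    rw [HasRingHomProperty.Spec_iff (P := @LocallyOfFiniteType)]
    exact RingHom.finiteType_algebraMap.2 inferInstance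

include ψ hLR in
/-- invariant functions separate disjoint closed invariant subsets -/
theorem exists_separating (W₁ W₂ : Set X.left) (h₁ : IsClosed W₁) (h₂ : IsClosed W₂)
    (hi₁ : a.act.left.base '' ((snd G X).left.base ⁻¹' W₁) ⊆ W₁)
    (hi₂ : a.act.left.base '' ((snd G X).left.base ⁻¹' W₂) ⊆ W₂) (hd : Disjoint W₁ W₂) :
    ∃ f : Γ(X.left, ⊤), Inv a f ∧
      W₁ ⊆ X.left.zeroLocus (U := ⊤) {f} ∧ W₂ ⊆ X.left.zeroLocus (U := ⊤) {1 - f} := by
  obtain ⟨J₁, hV₁, ha₁⟩ := exists_invIdeal ψ hLR a W₁ h₁ hi₁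
  obtain ⟨J₂, hV₂, ha₂⟩ := exists_invIdeal ψ hLR a W₂ h₂ hi₂
  have htop : J₁ ⊔ J₂ = ⊤ := by
    have h : PrimeSpectrum.zeroLocus ((J₁ ⊔ J₂ : Ideal Γ(X.left, ⊤)) : Set Γ(X.left, ⊤)) = ∅ := by
      rw [PrimeSpectrum.zeroLocus_sup, hV₁, hV₂]
      exact Set.disjoint_iff_inter_eq_empty.1
        (Set.disjoint_image_of_injective X.left.isoSpec.hom.homeomorph.injective hd)
    exact PrimeSpectrum.zeroLocus_empty_iff_eq_top.1 h
  obtain ⟨j₁, hj₁, j₂, hj₂, hsum⟩ := Submodule.mem_sup.1 ((Ideal.eq_top_iff_one _).1 htop)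
  have hone : avr ψ hLR a j₁ + avr ψ hLR a j₂ = 1 := by
    rw [← map_add, hsum, avr_of_inv ψ hLR a (by rw [Inv, map_one, map_one])]
  have hzero : ∀ (J : Ideal Γ(X.left, ⊤)) (W : Set X.left),
      PrimeSpectrum.zeroLocus (J : Set Γ(X.left, ⊤)) = X.left.isoSpec.hom.base '' W → ∀ f ∈ J,
      W ⊆ X.left.zeroLocus (U := ⊤) {f} := by
    intro J W hW f hf x hx
    rw [Scheme.mem_zeroLocus_iff]
    intro g hg
    rw [Set.mem_singleton_iff.1 hg, ← Scheme.map_PrimeSpectrum_basicOpen_of_affine]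
    intro hxf
    have : X.left.isoSpec.hom.base x ∈ PrimeSpectrum.zeroLocus (J : Set Γ(X.left, ⊤)) := hW ▸ ⟨x, hx, rfl⟩
    exact hxf (this hf)
  refine ⟨avr ψ hLR a j₁, inv_avr ψ hLR a j₁, hzero J₁ W₁ hV₁ _ (ha₁ j₁ hj₁), hzero J₂ W₂ hV₂ _ ?_⟩
  rw [← hone, add_sub_cancel_left]
  exact ha₂ j₂ hj₂

end Exists

variable {X Y : Over (Spec (CommRingCat.of k))} [IsAffine X.left] [IsAffine Y.left]
  {a : AlgGrp.Action G X} {φ : X ⟶ Y}

include ψ hLR in
/-- with closed orbits the fibres of an affine quotient are orbits -/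
theorem AffQ.surjective_PsiY (h : AffQ a φ) (hc : GIT.IsClosedAction a) :
    Function.Surjective (GIT.PsiY a φ h.inv).base := by
  intro z
  let Z := pullback φ.left φ.left
  let Ω := AlgebraicClosure (Z.residueField z)
  let p : Spec (CommRingCat.of Ω) ⟶ Z :=
    Spec.map (CommRingCat.ofHom (algebraMap (Z.residueField z) Ω)) ≫ Z.fromSpecResidueField z
  have hp : ∀ x, p.base x = z := fun x => by
    rw [Scheme.Hom.comp_apply]
    exact Scheme.fromSpecResidueField_apply z _
  let T : Over (Spec (CommRingCat.of k)) := Over.mk (p ≫ pullback.fst φ.left φ.left ≫ X.hom)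
  let f₁ : T ⟶ X := Over.homMk (p ≫ pullback.fst φ.left φ.left) (Category.assoc _ _ _)
  let f₂ : T ⟶ X := Over.homMk (p ≫ pullback.snd φ.left φ.left) (by
    show (p ≫ pullback.snd φ.left φ.left) ≫ X.hom = p ≫ pullback.fst φ.left φ.left ≫ X.hom
    rw [Category.assoc, ← Over.w φ, pullback.condition_assoc])
  have ef : f₁ ≫ φ = f₂ ≫ φ := Over.OverMorphism.ext (by
    show (p ≫ pullback.fst φ.left φ.left) ≫ φ.left = (p ≫ pullback.snd φ.left φ.left) ≫ φ.left
    exact (Category.assoc _ _ _).trans ((congrArg (p ≫ ·) pullback.condition).trans (Category.assoc _ _ _).symm))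
  haveI : IsAffine T.left := inferInstanceAs (IsAffine (Spec (CommRingCat.of Ω)))
  haveI : IsAffine (X ⊗ T).left := inferInstanceAs (IsAffine (pullback X.hom T.hom))
  haveI : IsAffine (Y ⊗ T).left := inferInstanceAs (IsAffine (pullback Y.hom T.hom))
  have hpb : IsPullback (fst X T) (φ ▷ T) φ (fst Y T) := by
    refine IsPullback.of_map (Over.forget _) (whiskerRight_fst φ T).symm ?_
    exact (Quot.isPullback_whiskerRight_left T φ).flip
  let aT := bcAction h.inv hpb
  have hQ : AffQ aT (φ ▷ T) :=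
    h.baseChange ψ hLR (fst X T) (φ ▷ T) (fst Y T) hpb aT (bcAction_act_fst h.inv hpb)
      (bcAction_invariant h.inv hpb)
  have heqv : ∀ f : T ⟶ X,
      (G ◁ GIT.psi a f) ≫ aT.act = (α_ G G T).inv ≫ (μ[G] ▷ T) ≫ GIT.psi a f := by
    intro f
    apply hpb.hom_ext
    · simp only [Category.assoc, aT, bcAction_act_fst, GIT.psi, lift_fst]
      rw [← whiskerLeft_comp_assoc, lift_fst, ← whisker_exchange_assoc, a.mul_act]
      simp
    · simp only [Category.assoc, aT, bcAction_invariant h.inv hpb, Quot.psi_whiskerRight h.inv]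
      rw [bcAction_invariant h.inv hpb, whiskerLeft_snd_assoc, Quot.psi_whiskerRight h.inv,
        whiskerRight_snd_assoc]
      simp
  let W : ULift.{u} Bool → Set (X ⊗ T).left := fun b =>
    Set.range (GIT.psi a (bif b.down then f₁ else f₂)).left.base
  have hW : ∀ b, IsClosed (W b) ∧
      aT.act.left.base '' ((snd G (X ⊗ T)).left.base ⁻¹' W b) ⊆ W b := by
    intro b
    refine ⟨hc Ω T (Iso.refl _) _, ?_⟩
    rintro _ ⟨r, ⟨s, hs⟩, rfl⟩
    let f := bif b.down then f₁ else f₂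
    obtain ⟨w, hw1, hw2⟩ := Scheme.Pullback.exists_preimage_pullback r s hs.symm
    let i := (Quot.isPullback_whiskerLeft_left G (GIT.psi a f)).isoPullback
    obtain ⟨q, rfl⟩ := i.hom.homeomorph.surjective w
    refine ⟨((α_ G G T).inv ≫ (μ[G] ▷ T)).left.base q, ?_⟩
    rw [← hw1, ← Scheme.Hom.comp_apply, ← Over.comp_left, Category.assoc, ← heqv, Over.comp_left,
      Scheme.Hom.comp_apply]
    congr 1
    show _ = (i.hom ≫ pullback.fst _ _).base q
    rw [(Quot.isPullback_whiskerLeft_left G (GIT.psi a f)).isoPullback_hom_fst]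
  let t₀ : T.left := IsLocalRing.closedPoint Ω
  let y₀ := (lift (f₁ ≫ φ) (𝟙 T)).left.base t₀
  have hy₀ : ∀ b, y₀ ∈ (φ ▷ T).left.base '' W b := by
    intro b
    let f := bif b.down then f₁ else f₂
    have hf : f ≫ φ = f₁ ≫ φ := by
      rcases b with ⟨_ | _⟩ <;> simp [f, ef]
    refine ⟨(GIT.psi a f).left.base ((lift (1 : T ⟶ G) (𝟙 T)).left.base t₀), ⟨_, rfl⟩, ?_⟩
    rw [← Scheme.Hom.comp_apply, ← Scheme.Hom.comp_apply, ← Over.comp_left, ← Over.comp_left,
      Quot.psi_whiskerRight h.inv, lift_snd_assoc, Category.id_comp, hf]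
  obtain ⟨-, he⟩ := hQ.images ψ hLR W hW
  obtain ⟨w, hw, -⟩ : y₀ ∈ (φ ▷ T).left.base '' ⋂ b, W b := he ▸ Set.mem_iInter.2 hy₀
  obtain ⟨s₁, hs₁⟩ : w ∈ Set.range (GIT.psi a f₁).left.base := Set.mem_iInter.1 hw ⟨true⟩
  obtain ⟨s₂, hs₂⟩ : w ∈ Set.range (GIT.psi a f₂).left.base := Set.mem_iInter.1 hw ⟨false⟩
  obtain ⟨u, -, -⟩ := Scheme.Pullback.exists_preimage_pullback (f := (GIT.psi a f₁).left)
    (g := (GIT.psi a f₂).left) s₁ s₂ (hs₁.trans hs₂.symm)
  let P : Over (Spec (CommRingCat.of k)) :=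
    Over.mk (pullback.fst (GIT.psi a f₁).left (GIT.psi a f₂).left ≫ (G ⊗ T).hom)
  let q₁ : P ⟶ G ⊗ T := Over.homMk (pullback.fst _ _) rfl
  let q₂ : P ⟶ G ⊗ T := Over.homMk (pullback.snd _ _) (by
    show pullback.snd _ _ ≫ (G ⊗ T).hom = pullback.fst _ _ ≫ (G ⊗ T).hom
    calc pullback.snd (GIT.psi a f₁).left (GIT.psi a f₂).left ≫ (G ⊗ T).hom
        = (pullback.snd _ _ ≫ (GIT.psi a f₂).left) ≫ (X ⊗ T).hom := by rw [Category.assoc, Over.w]
      _ = (pullback.fst _ _ ≫ (GIT.psi a f₁).left) ≫ (X ⊗ T).hom := by rw [pullback.condition]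
      _ = _ := by rw [Category.assoc, Over.w])
  have hq : q₁ ≫ GIT.psi a f₁ = q₂ ≫ GIT.psi a f₂ := Over.OverMorphism.ext pullback.condition
  let t := q₁ ≫ snd G T
  have ht : q₂ ≫ snd G T = t := by
    have := congrArg (· ≫ snd X T) hq
    simpa [GIT.psi] using this.symm
  let g₁ := q₁ ≫ fst G T
  let g₂ := q₂ ≫ fst G T
  have hg : lift g₁ (t ≫ f₁) ≫ a.act = lift g₂ (t ≫ f₂) ≫ a.act := by
    have := congrArg (· ≫ fst X T) hq
    simp only [Category.assoc, GIT.psi, lift_fst] at this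
    have e₁ : q₁ ≫ (G ◁ f₁) = lift g₁ (t ≫ f₁) := by
      apply CartesianMonoidalCategory.hom_ext <;> simp [g₁, t]
    have e₂ : q₂ ≫ (G ◁ f₂) = lift g₂ (t ≫ f₂) := by
      apply CartesianMonoidalCategory.hom_ext <;> simp [g₂, ← ht]
    rwa [reassoc_of% e₁, reassoc_of% e₂] at this
  let m : P ⟶ G ⊗ X := lift (g₁⁻¹ * g₂) (t ≫ f₂)
  have hm₁ : m ≫ a.act = t ≫ f₁ := by
    rw [AlgGrp.Action.lift_mul_act, ← hg, ← AlgGrp.Action.lift_mul_act, inv_mul_cancel,
      AlgGrp.Action.lift_one_act]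
  have hm : m.left ≫ GIT.PsiY a φ h.inv = t.left ≫ p := by
    apply pullback.hom_ext
    · rw [Category.assoc, Quot.PsiY_fst, Category.assoc]
      exact congrArg (·.left) hm₁
    · rw [Category.assoc, Quot.PsiY_snd, Category.assoc]
      exact congrArg (·.left) (lift_snd (g₁⁻¹ * g₂) (t ≫ f₂))
  refine ⟨m.left.base u, ?_⟩
  rw [← Scheme.Hom.comp_apply, hm, Scheme.Hom.comp_apply, hp]

include ψ hLR in
theorem AffQ.geomQuot_iff (h : AffQ a φ) :
    (GIT.IsGeomQuot a φ ↔ GIT.IsClosedAction a) ∧ (GIT.IsClosedAction a → GIT.IsUnivGeomQuot a φ) := by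
  have hu : GIT.IsClosedAction a → GIT.IsUnivGeomQuot a φ := fun hc =>
    (Quot.isGeomQuot_univ_iff (isUnivCatQuot ψ hLR h)).2
      ⟨isUnivSubmersive ψ hLR h, h.surjective_PsiY ψ hLR hc⟩
  exact ⟨⟨fun hg => Quot.isClosedAction_of_isGeomQuot hg, fun hc => (hu hc).1⟩, hu⟩

end Groth.Agent.GIT36.AffQuot
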