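import Groth.Agent.GIT36.AffQuot.Coact
import Groth.Agent.LinRed34.Ring
import Mathlib.AlgebraicGeometry.Morphisms.Affine
import Mathlib.Algebra.Category.Ring.Constructions

/-!
Affine quotients by linearly reductive groups.
-/

set_option autoImplicit false
set_option linter.unusedSectionVars false
set_option linter.style.haveILetI false
set_option backward.isDefEq.respectTransparency.types false

universe u

open CategoryTheory CategoryTheory.Limits MonoidalCategory CartesianMonoidalCategory MonObj GrpObj AlgebraicGeometry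
open scoped TensorProduct
open Groth.Agent.FinSub96
open WithConv TensorProduct

noncomputable section

namespace Groth.Agent.GIT36.AffQuot

variable {k : Type u} [Field k] {G : Over (Spec (CommRingCat.of k))} [GrpObj G]
  {A : Type u} [CommRing A] [HopfAlgebra k A] (ψ : GMod80.sp k A ≅ G) [IsMonHom ψ.hom]
  (hLR : HopfRep.IsLinearlyReductive k A)

section Rey

variable {X : Over (Spec (CommRingCat.of k))} [IsAffine X.left] (a : AlgGrp.Action G X)

/-- the averaging of functions -/
def avr : Γ(X.left, ⊤) →ₗ[k] Γ(X.left, ⊤) :=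
  @LinRed34.rey k _ A _ _ Γ(X.left, ⊤) _ _ (comod ψ a) hLR

theorem inv_avr (r : Γ(X.left, ⊤)) : Inv a (avr ψ hLR a r) := by
  letI := comod ψ a
  exact (inv_iff ψ a _).2 (LinRed34.rey_mem hLR r)

theorem avr_of_inv {r : Γ(X.left, ⊤)} (hr : Inv a r) : avr ψ hLR a r = r := by
  letI := comod ψ a
  exact LinRed34.rey_of_fixed hLR ((inv_iff ψ a r).1 hr)

theorem avr_natural {X' : Over (Spec (CommRingCat.of k))} [IsAffine X'.left] (a' : AlgGrp.Action G X')
    (p : X' ⟶ X) (hp : a'.act ≫ p = (G ◁ p) ≫ a.act) (r : Γ(X.left, ⊤)) :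
    p.left.appTop (avr ψ hLR a r) = avr ψ hLR a' (p.left.appTop r) := by
  letI := comod ψ a
  letI := comod ψ a'
  have hφ : Hoch.IsComodHom A (secMap p).toLinearMap := by
    refine LinearMap.ext fun x => (coact_secMap ψ a a' p hp x).trans ?_
    show _ = (secMap p).toLinearMap.rTensor A (coact ψ a x)
    generalize coact ψ a x = z
    induction z with
    | zero => simp
    | add u v hu hv => simp only [map_add, hu, hv]
    | tmul u v => rfl
  exact LinRed34.map_rey hLR hφ r

theorem avr_mul_inv {c : Γ(X.left, ⊤)} (hc : Inv a c) (r : Γ(X.left, ⊤)) :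
    avr ψ hLR a (r * c) = avr ψ hLR a r * c := by
  letI := comod ψ a
  haveI := isCoactAlg ψ a
  exact LinRed34.rey_mul_invariant hLR (show c ∈ GLin.invariants k A Γ(X.left, ⊤) from (inv_iff ψ a c).1 hc) r

include ψ hLR in
theorem inv_mul {c d : Γ(X.left, ⊤)} (hc : Inv a c) (hd : Inv a d) : Inv a (c * d) := by
  rw [Inv, map_mul, map_mul, hc, hd]

/-- closed invariant subsets are cut out by ideals stable under averaging -/
theorem exists_invIdeal (W : Set X.left) (hW : IsClosed W)
    (hi : a.act.left.base '' ((snd G X).left.base ⁻¹' W) ⊆ W) :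
    ∃ J : Ideal Γ(X.left, ⊤), PrimeSpectrum.zeroLocus (J : Set Γ(X.left, ⊤)) = X.left.isoSpec.hom.base '' W ∧
      ∀ x ∈ J, avr ψ hLR a x ∈ J := by
  let R := (Γ(X.left, ⊤) : Type u)
  let e := X.left.isoSpec.hom.homeomorph
  let W' : Set (PrimeSpectrum R) := X.left.isoSpec.hom.base '' W
  have hW' : IsClosed W' := e.isClosedMap _ hW
  let J₀ : Ideal R := PrimeSpectrum.vanishingIdeal W'
  have hJ₀ : PrimeSpectrum.zeroLocus (J₀ : Set R) = W' := by
    rw [PrimeSpectrum.zeroLocus_vanishingIdeal_eq_closure, hW'.closure_eq]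
  let π : R →ₐ[k] R ⧸ J₀ := Ideal.Quotient.mkₐ k J₀
  let πA : R ⊗[k] A →ₐ[k] (R ⧸ J₀) ⊗[k] A := Algebra.TensorProduct.map π (AlgHom.id k A)
  let ρ' : R →ₐ[k] (R ⧸ J₀) ⊗[k] A := πA.comp (coact ψ a)
  have hJle : RingHom.ker ρ' ≤ J₀ := by
    intro x hx
    rw [← Ideal.Quotient.eq_zero_iff_mem]
    have h1 : (CoalgebraStruct.counit (R := k) (A := A)).lTensor R (coact ψ a x) = x ⊗ₜ[k] (1 : k) :=
      LinearMap.congr_fun (comod ψ a).counit_comp x
    have h2 := congrArg (fun z => TensorProduct.rid k (R ⧸ J₀)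
      ((CoalgebraStruct.counit (R := k) (A := A)).lTensor (R ⧸ J₀) z)) (show ρ' x = 0 from hx)
    simp only [map_zero] at h2
    rw [← h2]
    have h3 : ∀ z : R ⊗[k] A, TensorProduct.rid k (R ⧸ J₀)
        ((CoalgebraStruct.counit (R := k) (A := A)).lTensor (R ⧸ J₀) (πA z)) =
        π (TensorProduct.rid k R ((CoalgebraStruct.counit (R := k) (A := A)).lTensor R z)) := by
      intro z
      induction z with
      | zero => simp
      | add u v hu hv => simp only [map_add, hu, hv]
      | tmul u v => simp [πA, π]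
    refine Eq.trans ?_ (h3 (coact ψ a x)).symm
    rw [h1]
    simp [π]
  refine ⟨RingHom.ker ρ', Set.Subset.antisymm ?_ ?_, fun x hx => ?_⟩
  · show PrimeSpectrum.zeroLocus (RingHom.ker ρ'.toRingHom : Set R) ⊆ W'
    rw [← PrimeSpectrum.closure_range_comap]
    refine closure_minimal ?_ hW'
    rintro _ ⟨q, rfl⟩
    let P := (R ⧸ J₀) ⊗[k] A
    let ι₀ : R →ₐ[k] P := Algebra.TensorProduct.includeLeft.comp π
    let q' : (VecGrp.pt k P).left := q
    let z : VecGrp.pt k ((R ⧸ J₀) ⊗[k] A) ⟶ G ⊗ X :=
      lift (GMod80.e ψ _ (toConv Algebra.TensorProduct.includeRight))⁻¹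
        (xe (X := X) ι₀)
    have hz2 : z ≫ snd G X = xe (X := X) ι₀ := lift_snd _ _
    have hz1 : z ≫ a.act = xe ρ' := by
      show act' ψ a _ _ = _
      rw [act'_eq]
      congr 1
      refine AlgHom.ext fun x => ?_
      show _ = πA (coact ψ a x)
      rw [AlgHom.comp_apply]
      generalize coact ψ a x = w
      induction w with
      | zero => simp
      | add u v hu hv => simp only [map_add, hu, hv]
      | tmul u v => simp [πA, ι₀, P]
    have hsp : ∀ (f : R →ₐ[k] P),
        X.left.isoSpec.hom.base ((xe (X := X) f).left.base q') = PrimeSpectrum.comap f.toRingHom q := by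
      intro f
      rw [← Scheme.Hom.comp_apply, xe_left, Category.assoc, Iso.inv_hom_id, Category.comp_id]
      rfl
    have h2 : (xe (X := X) ι₀).left.base q' ∈ W := by
      have h : PrimeSpectrum.comap ι₀.toRingHom q ∈ W' := by
        rw [← hJ₀, PrimeSpectrum.mem_zeroLocus]
        intro x hx
        have e0 : ι₀ x = 0 := by
          show Algebra.TensorProduct.includeLeftRingHom (π x) = (0 : P)
          rw [show π x = 0 from Ideal.Quotient.eq_zero_iff_mem.2 hx, map_zero]
        show ι₀ x ∈ q.asIdeal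
        exact e0 ▸ q.asIdeal.zero_mem
      rw [← hsp] at h
      exact (Function.Injective.mem_set_image e.injective).1 h
    refine ⟨(xe (X := X) ρ').left.base q', hi ⟨z.left.base q', ?_, ?_⟩, hsp ρ'⟩
    · show (snd G X).left.base (z.left.base q') ∈ W
      rw [← Scheme.Hom.comp_apply, ← Over.comp_left, hz2]
      exact h2
    · rw [← Scheme.Hom.comp_apply, ← Over.comp_left, hz1]
  · show W' ⊆ _
    rw [← hJ₀]
    exact PrimeSpectrum.zeroLocus_anti_mono hJle
  · letI := comod ψ a
    let K : Submodule k R := (RingHom.ker ρ').restrictScalars k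
    refine @LinRed34.rey_mem_of_isSubcomod k _ A _ _ R _ _ (comod ψ a) hLR K ?_ x hx
    rw [Comod33.isSubcomod_iff]
    intro f y hy
    show πA (coact ψ a (Comod33.dact (A := A) f y)) = 0
    have hy' : πA (coact ψ a y) = 0 := hy
    let L : ((R ⧸ J₀) ⊗[k] A) →ₗ[k] (R ⧸ J₀) ⊗[k] A :=
      (((TensorProduct.rid k A).toLinearMap ∘ₗ f.lTensor A) ∘ₗ CoalgebraStruct.comul (R := k) (A := A)).lTensor _
    have key : πA (coact ψ a (Comod33.dact (A := A) f y)) = L (πA (coact ψ a y)) := by
      have hco : TensorProduct.assoc k R A A ((coact ψ a).toLinearMap.rTensor A (coact ψ a y)) =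
          (CoalgebraStruct.comul (R := k) (A := A)).lTensor R (coact ψ a y) :=
        LinearMap.congr_fun (comod ψ a).coassoc y
      have e1 : ∀ w : R ⊗[k] A, L (πA w) = πA (((TensorProduct.rid k A).toLinearMap ∘ₗ f.lTensor A).lTensor R
          ((CoalgebraStruct.comul (R := k) (A := A)).lTensor R w)) := by
        intro w
        induction w with
        | zero => simp
        | add u v hu hv => simp only [map_add, hu, hv]
        | tmul u v => simp [L, πA]
      have e2 : ∀ w : R ⊗[k] A, ((TensorProduct.rid k A).toLinearMap ∘ₗ f.lTensor A).lTensor R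
          (TensorProduct.assoc k R A A ((coact ψ a).toLinearMap.rTensor A w)) =
            coact ψ a (Comod33.rc f w) := by
        intro w
        induction w with
        | zero => simp
        | add u v hu hv => simp only [map_add, hu, hv]
        | tmul u v =>
          rw [LinearMap.rTensor_tmul, Comod33.rc_tmul, map_smul, AlgHom.toLinearMap_apply]
          generalize coact ψ a u = z
          induction z with
          | zero => simp
          | add p q hp hq => simp only [map_add, TensorProduct.add_tmul, smul_add, hp, hq]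
          | tmul p q => simp [TensorProduct.tmul_smul]
      rw [e1, ← hco, e2]
      rfl
    rw [key, hy', map_zero]

end Rey

/-- affine quotient: functions downstairs are the invariant functions -/
structure AffQ {X Y : Over (Spec (CommRingCat.of k))} (a : AlgGrp.Action G X) (φ : X ⟶ Y) : Prop where
  inv : GIT.IsInvariant a φ
  injective : Function.Injective φ.left.appTop
  range : Set.range φ.left.appTop = {f | Inv a f}

variable {X Y : Over (Spec (CommRingCat.of k))} {a : AlgGrp.Action G X} {φ : X ⟶ Y}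

theorem inv_appTop (h : GIT.IsInvariant a φ) (s : Γ(Y.left, ⊤)) : Inv a (φ.left.appTop s) := by
  show a.act.left.appTop (φ.left.appTop s) = (snd G X).left.appTop (φ.left.appTop s)
  rw [← CommRingCat.comp_apply, ← CommRingCat.comp_apply, ← Scheme.Hom.comp_appTop, ← Scheme.Hom.comp_appTop]
  simp only [h.left]

theorem AffQ.exists_avr [IsAffine X.left] (h : AffQ a φ) (r : Γ(X.left, ⊤)) :
    ∃ s, φ.left.appTop s = avr ψ hLR a r := by
  have : avr ψ hLR a r ∈ Set.range φ.left.appTop := by
    rw [h.range]
    exact inv_avr ψ hLR a r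
  exact this

include ψ hLR in
/-- affine quotients are stable under base change -/
theorem AffQ.baseChange [IsAffine X.left] [IsAffine Y.left] (h : AffQ a φ)
    {X' Y' : Over (Spec (CommRingCat.of k))} [IsAffine X'.left] [IsAffine Y'.left]
    (pr : X' ⟶ X) (φ' : X' ⟶ Y') (g : Y' ⟶ Y) (hpb : IsPullback pr φ' φ g)
    (a' : AlgGrp.Action G X') (heq : a'.act ≫ pr = (G ◁ pr) ≫ a.act) (hinv : GIT.IsInvariant a' φ') :
    AffQ a' φ' := by
  have hpbL : IsPullback pr.left φ'.left φ.left g.left := hpb.map (Over.forget _)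
  have hpo := isPushout_appTop_of_isPullback hpbL
  let S := (Γ(Y.left, ⊤) : Type u)
  let R := (Γ(X.left, ⊤) : Type u)
  let B := (Γ(Y'.left, ⊤) : Type u)
  let R' := (Γ(X'.left, ⊤) : Type u)
  letI : Algebra S R := φ.left.appTop.hom.toAlgebra
  letI : Algebra S B := g.left.appTop.hom.toAlgebra
  letI : Algebra R R' := pr.left.appTop.hom.toAlgebra
  letI : Algebra B R' := φ'.left.appTop.hom.toAlgebra
  letI : Algebra S R' := (pr.left.appTop.hom.comp φ.left.appTop.hom).toAlgebra
  haveI : IsScalarTower S R R' := IsScalarTower.of_algebraMap_eq fun _ => rfl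
  haveI : IsScalarTower S B R' := IsScalarTower.of_algebraMap_eq fun s =>
    (congrArg (fun q => q.hom s) hpo.w)
  haveI hpush : Algebra.IsPushout S B R R' := (CommRingCat.isPushout_iff_isPushout.1 hpo.flip)
  have hbc := hpush.out
  choose E₀ hE₀ using fun r : R => AffQ.exists_avr ψ hLR h r
  let E : R →ₗ[S] B :=
    { toFun := fun r => g.left.appTop (E₀ r)
      map_add' := fun r r' => by
        rw [← map_add]
        congr 1
        apply h.injective
        rw [map_add, hE₀, hE₀, hE₀, map_add]
      map_smul' := fun s r => by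
        show g.left.appTop (E₀ (φ.left.appTop s * r)) = g.left.appTop s * g.left.appTop (E₀ r)
        rw [← map_mul]
        congr 1
        apply h.injective
        rw [map_mul, hE₀, hE₀, mul_comm _ r, avr_mul_inv ψ hLR a (inv_appTop h.inv s), mul_comm] }
  let L : R' →ₗ[B] B := hbc.lift E
  have hL : ∀ r : R, L (pr.left.appTop r) = g.left.appTop (E₀ r) := fun r => hbc.lift_eq E r
  have hL1 : ∀ b : B, L (φ'.left.appTop b) = b := by
    intro b
    have e1 : φ'.left.appTop b = b • (1 : R') := (_root_.mul_one _).symm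
    have e2 : (1 : R') = pr.left.appTop (1 : R) := (map_one _).symm
    rw [e1, map_smul, e2, hL]
    have : E₀ 1 = 1 := h.injective (by
      rw [hE₀, avr_of_inv ψ hLR a (by rw [Inv, map_one, map_one]), map_one])
    rw [this, map_one]
    exact _root_.mul_one b
  have hkey : ∀ x : R', avr ψ hLR a' x = φ'.left.appTop (L x) := by
    intro x
    induction x using hbc.inductionOn with
    | zero => rw [map_zero, map_zero, map_zero]
    | tmul r =>
      show avr ψ hLR a' (pr.left.appTop r) = φ'.left.appTop (L (pr.left.appTop r))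
      rw [← avr_natural ψ hLR a a' pr heq, hL, ← hE₀, ← CommRingCat.comp_apply, ← CommRingCat.comp_apply]
      exact congrArg (fun q => q.hom (E₀ r)) hpo.w
    | smul b n hn =>
      show avr ψ hLR a' (φ'.left.appTop b * n) = φ'.left.appTop (L (b • n))
      rw [map_smul, smul_eq_mul, mul_comm _ n, avr_mul_inv ψ hLR a' (inv_appTop hinv b), hn, mul_comm]
      exact (map_mul φ'.left.appTop.hom b (L n)).symm
    | add p q hp hq => rw [map_add, map_add, map_add, hp, hq]
  refine ⟨hinv, fun b b' hb => by rw [← hL1 b, ← hL1 b', hb], ?_⟩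
  refine Set.Subset.antisymm ?_ fun x hx => ?_
  · rintro _ ⟨b, rfl⟩
    exact inv_appTop hinv b
  · exact ⟨L x, by rw [← hkey, avr_of_inv ψ hLR a' hx]⟩

include ψ hLR in
/-- an affine quotient separates intersections of closed invariant sets -/
theorem AffQ.images [IsAffine X.left] [IsAffine Y.left] (h : AffQ a φ) {J : Type u} (W : J → Set X.left)
    (hW : ∀ i, IsClosed (W i) ∧ a.act.left.base '' ((snd G X).left.base ⁻¹' W i) ⊆ W i) :
    IsClosed (φ.left.base '' ⋂ i, W i) ∧ φ.left.base '' (⋂ i, W i) = ⋂ i, φ.left.base '' W i := by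
  let S := (Γ(Y.left, ⊤) : Type u)
  let R := (Γ(X.left, ⊤) : Type u)
  choose I hIV hIa using fun i => exists_invIdeal ψ hLR a (W i) (hW i).1 (hW i).2
  let f : S →+* R := φ.left.appTop.hom
  -- spectra
  have hnat : ∀ x : X.left, Y.left.isoSpec.hom.base (φ.left.base x) =
      PrimeSpectrum.comap f (X.left.isoSpec.hom.base x) := by
    intro x
    rw [← Scheme.Hom.comp_apply, ← Scheme.isoSpec_hom_naturality, Scheme.Hom.comp_apply]
    rfl
  have hmem : ∀ i x, x ∈ W i ↔ (I i : Set R) ⊆ (X.left.isoSpec.hom.base x).asIdeal := by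
    intro i x
    rw [← PrimeSpectrum.mem_zeroLocus, hIV i]
    exact (Function.Injective.mem_set_image X.left.isoSpec.hom.homeomorph.injective).symm
  have hstab : ∀ x ∈ ⨆ i, I i, avr ψ hLR a x ∈ ⨆ i, I i := fun x hx => by
    refine Submodule.iSup_induction I (motive := fun z => avr ψ hLR a z ∈ ⨆ i, I i) hx
      (fun i z hz => Submodule.mem_iSup_of_mem i (hIa i z hz)) (by rw [map_zero]; exact zero_mem _)
      (fun p q hp hq => by rw [map_add]; exact add_mem hp hq)
  choose E₀ hE₀ using fun r : R => AffQ.exists_avr ψ hLR h r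
  have hmap : ∀ (p : Ideal S), ∀ y ∈ p.map f, ∀ r : R, E₀ (r * y) ∈ p := by
    intro p y hy
    induction hy using Submodule.span_induction with
    | mem y hy =>
      obtain ⟨s, hs, rfl⟩ := hy
      intro r
      have e : E₀ (r * f s) = E₀ r * s := h.injective (by
        rw [map_mul, hE₀, hE₀]
        exact avr_mul_inv ψ hLR a (inv_appTop h.inv s) r)
      rw [e]
      exact p.mul_mem_left _ hs
    | zero =>
      intro r
      have e : E₀ (r * 0) = 0 := h.injective (by rw [hE₀, mul_zero, map_zero, map_zero])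
      rw [e]; exact p.zero_mem
    | add u v _ _ hu hv =>
      intro r
      have e : E₀ (r * (u + v)) = E₀ (r * u) + E₀ (r * v) := h.injective (by
        rw [map_add, hE₀, hE₀, hE₀, mul_add, map_add])
      rw [e]; exact p.add_mem (hu r) (hv r)
    | smul c u _ hu => intro r; rw [smul_eq_mul, ← _root_.mul_assoc]; exact hu _
  -- the key: primes over the contraction of the sum lift
  have hlift : ∀ p : PrimeSpectrum S, (∀ i, (I i).comap f ≤ p.asIdeal) →
      ∃ q : PrimeSpectrum R, (∀ i, (I i : Set R) ⊆ q.asIdeal) ∧ PrimeSpectrum.comap f q = p := by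
    intro p hp
    have hsum : ∀ z ∈ ⨆ i, I i, E₀ z ∈ p.asIdeal := fun z hz => by
      refine Submodule.iSup_induction I (motive := fun w => E₀ w ∈ p.asIdeal) hz
        (fun i w hw => hp i (by
          show φ.left.appTop (E₀ w) ∈ I i
          rw [hE₀]; exact hIa i w hw))
        (by rw [show E₀ 0 = 0 from h.injective (by rw [hE₀, map_zero, map_zero])]; exact p.asIdeal.zero_mem)
        (fun u v hu hv => by
          rw [show E₀ (u + v) = E₀ u + E₀ v from h.injective (by rw [map_add, hE₀, hE₀, hE₀, map_add])]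
          exact p.asIdeal.add_mem hu hv)
    let π := Ideal.Quotient.mk (⨆ i, I i)
    have hcm : (p.asIdeal.map (π.comp f)).comap (π.comp f) = p.asIdeal := by
      refine le_antisymm (fun s hs => ?_) Ideal.le_comap_map
      rw [Ideal.mem_comap, RingHom.comp_apply, ← Ideal.map_map, Ideal.mem_map_iff_of_surjective π
        Ideal.Quotient.mk_surjective] at hs
      obtain ⟨y, hy, hys⟩ := hs
      rw [Ideal.Quotient.eq] at hys
      have h1 := hmap p.asIdeal y hy 1
      rw [_root_.one_mul] at h1
      have h2 := hsum _ hys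
      have e : s = E₀ y - E₀ (y - f s) := h.injective (by
        rw [map_sub, hE₀, hE₀, ← map_sub, sub_sub_cancel]
        exact (avr_of_inv ψ hLR a (inv_appTop h.inv s)).symm)
      rw [e]
      exact p.asIdeal.sub_mem h1 h2
    obtain ⟨q, hq, hqp⟩ := (Ideal.comap_map_eq_self_iff_of_isPrime p.asIdeal).1 hcm
    refine ⟨⟨q.comap π, hq.comap π⟩, fun i z hz => ?_, PrimeSpectrum.ext hqp⟩
    show π z ∈ q
    rw [Ideal.Quotient.eq_zero_iff_mem.2 (Submodule.mem_iSup_of_mem i hz)]
    exact q.zero_mem
  have hmain : φ.left.base '' (⋂ i, W i) =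
      {y | ∀ i, (I i).comap f ≤ (Y.left.isoSpec.hom.base y).asIdeal} := by
    refine Set.Subset.antisymm ?_ fun y hy => ?_
    · rintro _ ⟨x, hx, rfl⟩ i s hs
      rw [hnat]
      exact (hmem i x).1 (Set.mem_iInter.1 hx i) hs
    · obtain ⟨q, hq, hqp⟩ := hlift _ hy
      obtain ⟨x, rfl⟩ := X.left.isoSpec.hom.homeomorph.surjective q
      refine ⟨x, Set.mem_iInter.2 fun i => (hmem i x).2 (hq i), ?_⟩
      exact Y.left.isoSpec.hom.homeomorph.injective ((hnat x).trans hqp)
  refine ⟨?_, Set.Subset.antisymm (Set.image_iInter_subset _ _) fun y hy => ?_⟩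
  · rw [hmain]
    have : IsClosed (⋂ i, PrimeSpectrum.zeroLocus (((I i).comap f : Ideal S) : Set S)) :=
      isClosed_iInter fun i => PrimeSpectrum.isClosed_zeroLocus _
    convert this.preimage Y.left.isoSpec.hom.continuous using 1
    ext y
    exact ⟨fun hy => Set.mem_iInter.2 fun i => hy i, fun hy i => Set.mem_iInter.1 hy i⟩
  · rw [hmain]
    intro i s hs
    obtain ⟨x, hx, rfl⟩ := Set.mem_iInter.1 hy i
    rw [hnat]
    exact (hmem i x).1 hx hs

end Groth.Agent.GIT36.AffQuot
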