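import Groth.Prelude.Def_W4bk4git07Quot
import Groth.Prelude.Def_ChGrp
import Groth.Prelude.Def_GLin
import Groth.Agent.GMod80.Dict
import Groth.Agent.FinSub96.Pts
import Groth.Agent.Comod33.Act
import Groth.Agent.GIT36.LinRedChar0.Geom

/-!
The coaction on the functions of an affine scheme with an action of an affine group.
-/

set_option autoImplicit false
set_option linter.unusedSectionVars false
set_option linter.style.haveILetI false
set_option backward.isDefEq.respectTransparency.types false

universe u

open CategoryTheory CategoryTheory.Limits MonoidalCategory CartesianMonoidalCategory MonObj GrpObj AlgebraicGeometry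
open scoped TensorProduct
open Groth.Agent.FinSub96
open WithConv TensorProduct

noncomputable section

namespace Groth.Agent.GIT36.AffQuot

variable {k : Type u} [Field k]

/-- invariant global functions -/
def Inv {G X : Over (Spec (CommRingCat.of k))} [GrpObj G] (a : AlgGrp.Action G X) (r : Γ(X.left, ⊤)) : Prop :=
  a.act.left.appTop r = (snd G X).left.appTop r

section Points

variable (X : Over (Spec (CommRingCat.of k))) [IsAffine X.left]

/-- an affine scheme is the spectrum of its functions -/
def chi : VecGrp.pt k Γ(X.left, ⊤) ≅ X :=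
  Over.isoMk X.left.isoSpec.symm (by
    rw [Iso.symm_hom, Iso.inv_comp_eq]
    exact (Over.w (toSp X)).symm)

variable {X} {B : Type u} [CommRing B] [Algebra k B]

/-- the point of an algebra map -/
def xe (f : Γ(X.left, ⊤) →ₐ[k] B) : VecGrp.pt k B ⟶ X := VecGrp.ptMap f ≫ (chi X).hom

theorem xe_left (f : Γ(X.left, ⊤) →ₐ[k] B) :
    (xe f).left = Spec.map (CommRingCat.ofHom f.toRingHom) ≫ X.left.isoSpec.inv := rfl

theorem xe_natural {B' : Type u} [CommRing B'] [Algebra k B'] (φ : B →ₐ[k] B') (f : Γ(X.left, ⊤) →ₐ[k] B) :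
    VecGrp.ptMap φ ≫ xe f = xe (φ.comp f) := by
  apply Over.OverMorphism.ext
  rw [Over.comp_left, xe_left, xe_left, VecGrp.ptMap_left, ← Category.assoc, ← Spec.map_comp]
  rfl

theorem xe_injective {f g : Γ(X.left, ⊤) →ₐ[k] B} (h : xe f = xe g) : f = g := by
  have h' : Spec.map (CommRingCat.ofHom f.toRingHom) ≫ X.left.isoSpec.inv =
      Spec.map (CommRingCat.ofHom g.toRingHom) ≫ X.left.isoSpec.inv := by rw [← xe_left, ← xe_left, h]
  rw [cancel_mono] at h'
  exact AlgHom.ext fun r => congrArg (fun q => q.hom r) (Spec.map_injective h')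

theorem xe_surjective (p : VecGrp.pt k B ⟶ X) : ∃ f : Γ(X.left, ⊤) →ₐ[k] B, xe f = p := by
  let q := p ≫ (chi X).inv
  let φ := Spec.preimage q.left
  have hφ : Spec.map φ = q.left := Spec.map_preimage _
  have hw : CommRingCat.ofHom (algebraMap k Γ(X.left, ⊤)) ≫ φ = CommRingCat.ofHom (algebraMap k B) := by
    apply Spec.map_injective
    rw [Spec.map_comp, hφ]
    exact Over.w q
  let f : Γ(X.left, ⊤) →ₐ[k] B := { φ.hom with commutes' := fun c => congrArg (fun r => r.hom c) hw }
  have hq : VecGrp.ptMap f = q := Over.OverMorphism.ext (by rw [VecGrp.ptMap_left]; exact hφ)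
  refine ⟨f, ?_⟩
  rw [xe, hq, Category.assoc, Iso.inv_hom_id, Category.comp_id]

theorem xe_id : xe (AlgHom.id k Γ(X.left, ⊤)) = (chi X).hom := by
  apply Over.OverMorphism.ext
  rw [xe_left]
  show Spec.map (𝟙 _) ≫ _ = _
  rw [Spec.map_id]
  exact Category.id_comp _

theorem xe_comp {X' : Over (Spec (CommRingCat.of k))} [IsAffine X'.left] (p : X' ⟶ X)
    (f : Γ(X'.left, ⊤) →ₐ[k] B) : xe f ≫ p = xe (f.comp (secMap p)) := by
  apply Over.OverMorphism.ext
  rw [Over.comp_left, xe_left, xe_left, Category.assoc, ← Scheme.isoSpec_inv_naturality, ← Category.assoc,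
    ← Spec.map_comp]
  rfl

theorem isoSpec_inv_appTop : X.left.isoSpec.inv.appTop = (Scheme.ΓSpecIso Γ(X.left, ⊤)).inv := by
  have h : X.left.isoSpec.inv.appTop ≫ X.left.isoSpec.hom.appTop =
      (Scheme.ΓSpecIso Γ(X.left, ⊤)).inv ≫ X.left.isoSpec.hom.appTop := by
    rw [← Scheme.Hom.comp_appTop, Iso.hom_inv_id, show X.left.isoSpec.hom = X.left.toSpecΓ from rfl,
      Scheme.toSpecΓ_appTop, Iso.inv_hom_id]
    rfl
  haveI : IsIso X.left.isoSpec.hom.appTop := (Scheme.Γ.mapIso X.left.isoSpec.op).isIso_hom
  exact (cancel_mono _).1 h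

theorem appTop_xe (f : Γ(X.left, ⊤) →ₐ[k] B) (r : Γ(X.left, ⊤)) :
    (xe f).left.appTop r = (Scheme.ΓSpecIso (CommRingCat.of B)).inv (f r) := by
  have h := congr($(Scheme.ΓSpecIso_inv_naturality (CommRingCat.ofHom f.toRingHom)) r)
  simp only [CommRingCat.comp_apply] at h
  refine Eq.trans ?_ h.symm
  rw [xe_left, Scheme.Hom.comp_appTop, CommRingCat.comp_apply]
  congr 1
  exact congr($(isoSpec_inv_appTop (X := X)) r)

end Points

section Coact

variable {G X : Over (Spec (CommRingCat.of k))} [GrpObj G] [IsAffine X.left]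
  {A : Type u} [CommRing A] [HopfAlgebra k A] (ψ : GMod80.sp k A ≅ G) [IsMonHom ψ.hom]
  (a : AlgGrp.Action G X)

/-- the right action on points -/
def act' {B : Type u} [CommRing B] [Algebra k B] (g : WithConv (A →ₐ[k] B)) (x : Γ(X.left, ⊤) →ₐ[k] B) :
    VecGrp.pt k B ⟶ X :=
  lift (GMod80.e ψ B g)⁻¹ (xe x) ≫ a.act

theorem exists_coact : ∃ f : Γ(X.left, ⊤) →ₐ[k] Γ(X.left, ⊤) ⊗[k] A, xe f =
    act' ψ a (toConv Algebra.TensorProduct.includeRight) Algebra.TensorProduct.includeLeft :=
  xe_surjective _

/-- the coaction -/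
def coact : Γ(X.left, ⊤) →ₐ[k] Γ(X.left, ⊤) ⊗[k] A := (exists_coact ψ a).choose

theorem xe_coact : xe (coact ψ a) =
    act' ψ a (toConv Algebra.TensorProduct.includeRight) Algebra.TensorProduct.includeLeft :=
  (exists_coact ψ a).choose_spec

theorem act'_eq {B : Type u} [CommRing B] [Algebra k B] (g : WithConv (A →ₐ[k] B)) (x : Γ(X.left, ⊤) →ₐ[k] B) :
    act' ψ a g x =
      xe ((Algebra.TensorProduct.lift x g.ofConv (fun _ _ => Commute.all _ _)).comp (coact ψ a)) := by
  rw [← xe_natural, xe_coact, act', act', ← Category.assoc, comp_lift, GrpObj.comp_inv, GMod80.e_natural,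
    xe_natural]
  have h1 : (Algebra.TensorProduct.lift x g.ofConv (fun _ _ => Commute.all _ _)).comp
      Algebra.TensorProduct.includeLeft = x := AlgHom.ext fun r => by simp
  have h2 : (Algebra.TensorProduct.lift x g.ofConv (fun _ _ => Commute.all _ _)).comp
      Algebra.TensorProduct.includeRight = g.ofConv := AlgHom.ext fun r => by simp
  rw [h1, ofConv_toConv, h2, toConv_ofConv]

theorem act'_one {B : Type u} [CommRing B] [Algebra k B] (x : Γ(X.left, ⊤) →ₐ[k] B) :
    act' ψ a 1 x = xe x := by
  rw [act', map_one, inv_one, AlgGrp.Action.lift_one_act]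

theorem act'_mul {B : Type u} [CommRing B] [Algebra k B] (g h : WithConv (A →ₐ[k] B))
    (x : Γ(X.left, ⊤) →ₐ[k] B) :
    act' ψ a (g * h) x =
      act' ψ a h ((Algebra.TensorProduct.lift x g.ofConv (fun _ _ => Commute.all _ _)).comp (coact ψ a)) := by
  rw [act', map_mul, _root_.mul_inv_rev, AlgGrp.Action.lift_mul_act]
  show _ = lift (GMod80.e ψ B h)⁻¹ _ ≫ a.act
  rw [← act'_eq]
  rfl

/-- functions on an affine scheme with action form a comodule -/
@[reducible] def comod : HopfRep.Comod k A Γ(X.left, ⊤) where
  coact := (coact ψ a).toLinearMap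
  coassoc := by
    let R := Γ(X.left, ⊤)
    let T := (R : Type u) ⊗[k] (A ⊗[k] A)
    let i₁ : R →ₐ[k] T := Algebra.TensorProduct.includeLeft
    let g : A →ₐ[k] T := Algebra.TensorProduct.includeRight.comp Algebra.TensorProduct.includeLeft
    let h : A →ₐ[k] T := Algebra.TensorProduct.includeRight.comp Algebra.TensorProduct.includeRight
    have key := act'_mul ψ a (toConv g) (toConv h) i₁
    rw [act'_eq, act'_eq] at key
    have key' := xe_injective key
    refine LinearMap.ext fun r => ?_
    have hr := DFunLike.congr_fun key' r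
    simp only [AlgHom.comp_apply] at hr
    simp only [LinearMap.comp_apply, LinearEquiv.coe_coe, AlgHom.toLinearMap_apply]
    refine Eq.trans ?_ (hr.symm.trans ?_)
    · generalize coact ψ a r = z
      induction z with
      | zero => simp
      | add p q hp hq => simp only [map_add, hp, hq]
      | tmul p q =>
        simp only [LinearMap.rTensor_tmul, AlgHom.toLinearMap_apply, Algebra.TensorProduct.lift_tmul,
          AlgHom.comp_apply]
        generalize coact ψ a p = y
        induction y with
        | zero => simp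
        | add p q hp hq => simp only [map_add, TensorProduct.add_tmul, add_mul, hp, hq]
        | tmul b c =>
          show b ⊗ₜ[k] (c ⊗ₜ[k] q) = _
          simp only [i₁, g, h, T, Algebra.TensorProduct.lift_tmul, ofConv_toConv, AlgHom.comp_apply,
            Algebra.TensorProduct.includeLeft_apply, Algebra.TensorProduct.includeRight_apply]
          rw [Algebra.TensorProduct.tmul_mul_tmul, Algebra.TensorProduct.tmul_mul_tmul]
          simp
    · generalize coact ψ a r = z
      induction z with
      | zero => simp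
      | add p q hp hq => simp only [map_add, hp, hq]
      | tmul p q =>
        simp only [LinearMap.lTensor_tmul, Algebra.TensorProduct.lift_tmul, AlgHom.convMul_apply]
        generalize CoalgebraStruct.comul (R := k) q = y
        induction y with
        | zero => simp
        | add p q hp hq => simp only [map_add, TensorProduct.tmul_add, mul_add, hp, hq]
        | tmul b c =>
          simp only [i₁, g, h, T, TensorProduct.map_tmul, LinearMap.mul'_apply, AlgHom.toLinearMap_apply,
            Algebra.TensorProduct.lift_tmul, ofConv_toConv, AlgHom.comp_apply,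
            Algebra.TensorProduct.includeLeft_apply, Algebra.TensorProduct.includeRight_apply]
          rw [Algebra.TensorProduct.tmul_mul_tmul, Algebra.TensorProduct.tmul_mul_tmul]
          simp
  counit_comp := by
    have key := act'_one ψ a (AlgHom.id k Γ(X.left, ⊤))
    rw [act'_eq] at key
    have key' := xe_injective key
    refine LinearMap.ext fun r => ?_
    have hr := DFunLike.congr_fun key' r
    simp only [AlgHom.comp_apply, AlgHom.id_apply] at hr
    simp only [LinearMap.comp_apply, AlgHom.toLinearMap_apply]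
    apply (TensorProduct.rid k Γ(X.left, ⊤)).injective
    refine Eq.trans ?_ (hr.trans (by simp))
    generalize coact ψ a r = z
    induction z with
    | zero => simp
    | add p q hp hq => simp only [map_add, hp, hq]
    | tmul p q => simp [Algebra.smul_def, mul_comm]

theorem isCoactAlg : letI := comod ψ a; GLin.IsCoactAlg k A Γ(X.left, ⊤) :=
  letI := comod ψ a
  ⟨map_one (coact ψ a), map_mul (coact ψ a)⟩

/-- the invariant functions are the fixed vectors of the coaction -/
theorem inv_iff (r : Γ(X.left, ⊤)) : Inv a r ↔ coact ψ a r = r ⊗ₜ[k] (1 : A) := by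
  let R := Γ(X.left, ⊤)
  let T := (R : Type u) ⊗[k] A
  let j : VecGrp.pt k T ⟶ G ⊗ X :=
    lift (GMod80.e ψ T (toConv Algebra.TensorProduct.includeRight))⁻¹ (xe Algebra.TensorProduct.includeLeft)
  haveI := LinRedChar0.isIso_pairIso ψ (R : Type u)
  have hj : j = VecGrp.ptMap (Algebra.TensorProduct.comm k A R).toAlgHom ≫ GMod80.pairIso ψ R ≫
      (ι[G] ⊗ₘ (chi X).hom) := by
    rw [GMod80.pairIso, lift_map, comp_lift, ← Category.assoc, GMod80.e_natural]
    apply CartesianMonoidalCategory.hom_ext <;> simp only [j, lift_fst, lift_snd]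
    · rw [← Hom.inv_def]
      congr 2
    · rw [← xe_id, xe_natural, xe_natural]
      congr 1
  have hiso : IsIso j.left := by
    haveI : IsIso (VecGrp.ptMap (R := k) (Algebra.TensorProduct.comm k A R).toAlgHom).left := by
      rw [VecGrp.ptMap_left]
      exact (Scheme.Spec.mapIso
        (Algebra.TensorProduct.comm k A R).toRingEquiv.toCommRingCatIso.op).isIso_hom
    haveI : IsIso (GMod80.pairIso ψ R).left := ((Over.forget _).mapIso (asIso (GMod80.pairIso ψ R))).isIso_hom
    haveI : IsIso ι[G] := ⟨ι[G], GrpObj.inv_comp_inv G, GrpObj.inv_comp_inv G⟩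
    haveI : IsIso (ι[G] ⊗ₘ (chi X).hom).left :=
      ((Over.forget _).mapIso (asIso (ι[G] ⊗ₘ (chi X).hom))).isIso_hom
    rw [hj, Over.comp_left, Over.comp_left]
    infer_instance
  have hinj := @GMod80.appTop_injective _ _ j.left hiso
  have h1 : j ≫ a.act = xe (coact ψ a) := (xe_coact ψ a).symm
  have h2 : j ≫ snd G X = xe Algebra.TensorProduct.includeLeft := lift_snd _ _
  have e1 := appTop_xe (coact ψ a) r
  have e2 := appTop_xe (Algebra.TensorProduct.includeLeft : R →ₐ[k] T) r
  rw [← h1, Over.comp_left, Scheme.Hom.comp_appTop, CommRingCat.comp_apply] at e1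
  rw [← h2, Over.comp_left, Scheme.Hom.comp_appTop, CommRingCat.comp_apply] at e2
  rw [Inv]
  refine hinj.eq_iff.symm.trans ?_
  rw [e1, e2]
  exact (ConcreteCategory.bijective_of_isIso (Scheme.ΓSpecIso (CommRingCat.of T)).inv).1.eq_iff

/-- equivariant morphisms commute with the coactions -/
theorem coact_secMap {X' : Over (Spec (CommRingCat.of k))} [IsAffine X'.left] (a' : AlgGrp.Action G X')
    (p : X' ⟶ X) (hp : a'.act ≫ p = (G ◁ p) ≫ a.act) (r : Γ(X.left, ⊤)) :
    coact ψ a' (secMap p r) = Algebra.TensorProduct.map (secMap p) (AlgHom.id k A) (coact ψ a r) := by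
  have key : xe ((coact ψ a').comp (secMap p)) =
      act' ψ a (toConv Algebra.TensorProduct.includeRight)
        (Algebra.TensorProduct.includeLeft.comp (secMap p)) := by
    rw [← xe_comp, xe_coact, act', Category.assoc, hp, lift_whiskerLeft_assoc, xe_comp]
    rfl
  rw [act'_eq] at key
  refine (DFunLike.congr_fun (xe_injective key) r).trans ?_
  rw [AlgHom.comp_apply]
  generalize coact ψ a r = z
  induction z with
  | zero => simp
  | add p q hp hq => simp only [map_add, hp, hq]
  | tmul p q => simp

end Coact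

end Groth.Agent.GIT36.AffQuot
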