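import Groth.Agent.GIT36.AffQuot.AffQ
import Groth.Agent.GIT36.Quot.Univ
import Groth.Agent.H98EqInt.DescendUniv

/-!
An affine quotient is a universal categorical quotient and universally submersive.
-/

set_option autoImplicit false
set_option linter.unusedSectionVars false
set_option linter.style.haveILetI false
set_option backward.isDefEq.respectTransparency.types false

universe u

open CategoryTheory CategoryTheory.Limits MonoidalCategory CartesianMonoidalCategory MonObj GrpObj AlgebraicGeometry Topology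

noncomputable section

namespace Groth.Agent.GIT36.AffQuot

open H98EqInt

variable {k : Type u} [Field k] {G : Over (Spec (CommRingCat.of k))} [GrpObj G]
  {A : Type u} [CommRing A] [HopfAlgebra k A] (ψ : GMod80.sp k A ≅ G) [IsMonHom ψ.hom]
  (hLR : HopfRep.IsLinearlyReductive k A)

variable {X Y X' Y' : Over (Spec (CommRingCat.of k))} [IsAffine X.left] [IsAffine Y.left]
  {a : AlgGrp.Action G X} {φ : X ⟶ Y} (h : AffQ a φ)
  {pr : X' ⟶ X} {φ' : X' ⟶ Y'} {g : Y' ⟶ Y} (hpb : IsPullback pr φ' φ g)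
  {a' : AlgGrp.Action G X'} (heq : a'.act ≫ pr = (G ◁ pr) ≫ a.act) (hinv : GIT.IsInvariant a' φ')

section Part

variable (φ') (V : Y'.left.Opens)

/-- an open piece of the base -/
abbrev baseV : Over (Spec (CommRingCat.of k)) := Over.mk (V.ι ≫ Y'.hom)

/-- its preimage -/
abbrev totV : Over (Spec (CommRingCat.of k)) := Over.mk ((φ'.left ⁻¹ᵁ V).ι ≫ X'.hom)

/-- inclusion of the piece -/
abbrev gV : baseV V ⟶ Y' := Over.homMk V.ι rfl

/-- inclusion of the preimage -/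
abbrev prV : totV φ' V ⟶ X' := Over.homMk (φ'.left ⁻¹ᵁ V).ι rfl

/-- restricted morphism -/
abbrev phiV : totV φ' V ⟶ baseV V := Over.homMk (φ'.left ∣_ V) (by
  change (φ'.left ∣_ V) ≫ V.ι ≫ Y'.hom = _
  rw [morphismRestrict_ι_assoc, Over.w φ']
  rfl)

theorem isPullback_piece : IsPullback (prV φ' V) (phiV φ' V) φ' (gV V) := by
  refine IsPullback.of_map (Over.forget _) ?_ (isPullback_morphismRestrict φ'.left V).flip
  exact Over.OverMorphism.ext (morphismRestrict_ι φ'.left V).symm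

include hpb in
theorem isAffine_totV (hV : IsAffineOpen V) : IsAffine (totV φ' V).left := by
  haveI : IsAffineHom φ'.left :=
    MorphismProperty.of_isPullback (P := @IsAffineHom) (hpb.map (Over.forget _))
      (inferInstance : IsAffineHom φ.left)
  exact hV.preimage φ'.left

/-- the restricted action -/
abbrev actV : AlgGrp.Action G (totV φ' V) := bcAction hinv (isPullback_piece φ' V)

include ψ hLR h hpb heq hinv in
theorem affQ_piece (hV : IsAffineOpen V) : AffQ (actV φ' hinv V) (phiV φ' V) := by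
  haveI := isAffine_totV φ' hpb V hV
  haveI : IsAffine (baseV V).left := hV
  refine h.baseChange ψ hLR (prV φ' V ≫ pr) (phiV φ' V) (gV V ≫ g)
    ((isPullback_piece φ' V).paste_horiz hpb) _ ?_ (bcAction_invariant hinv _)
  rw [← Category.assoc, bcAction_act_fst, Category.assoc, heq, ← whiskerLeft_comp_assoc]

omit [IsAffine X.left] [IsAffine Y.left] in
theorem invariant_preimage {W : Set X'.left}
    (hW : a'.act.left.base '' ((snd G X').left.base ⁻¹' W) ⊆ W) :
    (actV φ' hinv V).act.left.base '' ((snd G (totV φ' V)).left.base ⁻¹' ((φ'.left ⁻¹ᵁ V).ι.base ⁻¹' W)) ⊆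
      (φ'.left ⁻¹ᵁ V).ι.base ⁻¹' W := by
  rintro _ ⟨r, hr, rfl⟩
  have e1 : ((G ◁ prV φ' V) ≫ snd G X').left.base r = (snd G (totV φ' V) ≫ prV φ' V).left.base r := by
    rw [whiskerLeft_snd]
  have h2 : a'.act.left.base ((G ◁ prV φ' V).left.base r) ∈ W := hW ⟨_, by
    show (snd G X').left.base ((G ◁ prV φ' V).left.base r) ∈ W
    rw [← Scheme.Hom.comp_apply, ← Over.comp_left, e1, Over.comp_left, Scheme.Hom.comp_apply]
    exact hr, rfl⟩
  rw [← Scheme.Hom.comp_apply, ← Over.comp_left, ← bcAction_act_fst hinv (isPullback_piece φ' V),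
    Over.comp_left, Scheme.Hom.comp_apply] at h2
  exact h2

omit [IsAffine X.left] [IsAffine Y.left] in
theorem image_piece (W : Set X'.left) :
    V.ι.base '' ((phiV φ' V).left.base '' ((φ'.left ⁻¹ᵁ V).ι.base ⁻¹' W)) =
      φ'.left.base '' W ∩ (V : Set Y'.left) := by
  refine Set.Subset.antisymm ?_ ?_
  · rintro _ ⟨_, ⟨x, hx, rfl⟩, rfl⟩
    exact ⟨⟨(φ'.left ⁻¹ᵁ V).ι.base x, hx, (morphismRestrict_base_coe φ'.left V x).symm⟩,
      ((φ'.left ∣_ V).base x).2⟩
  · rintro _ ⟨⟨x, hx, rfl⟩, hxV⟩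
    exact ⟨_, ⟨⟨x, hxV⟩, hx, rfl⟩, morphismRestrict_base_coe φ'.left V ⟨x, hxV⟩⟩

theorem appTop_phiV (t : Γ(Y'.left, V)) :
    (phiV φ' V).left.appTop (V.topIso.inv t) = (φ'.left ⁻¹ᵁ V).topIso.inv (φ'.left.app V t) := by
  rw [← CommRingCat.comp_apply, ← CommRingCat.comp_apply]
  congr 2
  have e : (φ'.left ∣_ V).appTop = V.topIso.hom ≫ φ'.left.app V ≫ (φ'.left ⁻¹ᵁ V).topIso.inv := by
    rw [← Scheme.Hom.resLE_eq_morphismRestrict, Scheme.Hom.app_eq_appLE]
    exact Scheme.Hom.resLE_app_top φ'.left le_rfl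
  change V.topIso.inv ≫ (φ'.left ∣_ V).appTop = _
  rw [e, Iso.inv_hom_id_assoc]

omit [IsAffine X.left] [IsAffine Y.left] in
theorem inv_piece_iff (s : Γ(X'.left, φ'.left ⁻¹ᵁ V)) :
    Inv (actV φ' hinv V) ((φ'.left ⁻¹ᵁ V).topIso.inv s) ↔ GIT.IsInvSection a' φ' V s := by
  let U := φ'.left ⁻¹ᵁ V
  let j := (G ◁ prV φ' V).left
  have h₁ : (actV φ' hinv V).act.left ≫ U.ι = j ≫ a'.act.left :=
    congrArg (·.left) (bcAction_act_fst hinv (isPullback_piece φ' V))
  have h₂ : (snd G (totV φ' V)).left ≫ U.ι = j ≫ (snd G X').left :=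
    (congrArg (·.left) (whiskerLeft_snd G (prV φ' V))).symm
  have hle : ∀ (m : (G ⊗ totV φ' V).left ⟶ U.toScheme),
      (⊤ : (G ⊗ totV φ' V).left.Opens) ≤ (m ≫ U.ι) ⁻¹ᵁ U := fun m x _ => (m x).2
  refine ⟨fun hs => ?_, fun hs => ?_⟩
  · let T : (G ⊗ X').left.Opens := a'.act.left ⁻¹ᵁ U ⊓ (snd G X').left ⁻¹ᵁ U
    let σ : T.toScheme ⟶ U.toScheme := IsOpenImmersion.lift U.ι (T.ι ≫ (snd G X').left) (by
      rintro _ ⟨x, rfl⟩
      rw [Scheme.Opens.range_ι]
      exact x.2.2)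
    have hσ : σ ≫ U.ι = T.ι ≫ (snd G X').left := IsOpenImmersion.lift_fac _ _ _
    let m : T.toScheme ⟶ (G ⊗ totV φ' V).left :=
      (Quot.isPullback_whiskerLeft_left G (prV φ' V)).lift T.ι σ hσ.symm
    have hm : m ≫ j = T.ι := IsPullback.lift_fst _ _ _ _
    have hm' : ∀ (f : (G ⊗ totV φ' V).left ⟶ U.toScheme),
        (⊤ : T.toScheme.Opens) ≤ ((m ≫ f) ≫ U.ι) ⁻¹ᵁ U := fun f x _ => ((m ≫ f) x).2
    have key : (m ≫ (actV φ' hinv V).act.left).appTop (U.topIso.inv s) =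
        (m ≫ (snd G (totV φ' V)).left).appTop (U.topIso.inv s) := by
      rw [Scheme.Hom.comp_appTop, Scheme.Hom.comp_appTop, CommRingCat.comp_apply, CommRingCat.comp_apply]
      exact congrArg m.appTop hs
    rw [Quot.appTop_topIso_inv _ _ s (hm' _), Quot.appTop_topIso_inv _ _ s (hm' _)] at key
    have e₁ : (m ≫ (actV φ' hinv V).act.left) ≫ U.ι = T.ι ≫ a'.act.left := by
      rw [Category.assoc, h₁, reassoc_of% hm]
    have e₂ : (m ≫ (snd G (totV φ' V)).left) ≫ U.ι = T.ι ≫ (snd G X').left := by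
      rw [Category.assoc, h₂, reassoc_of% hm]
    simp only [U] at e₁ e₂
    simp only [e₁, e₂] at key
    have hT : (⊤ : T.toScheme.Opens) ≤ T.ι ⁻¹ᵁ T := fun x _ => x.2
    have hinj : Function.Injective (T.ι.appLE T ⊤ hT) := by
      have e : T.ι.appLE T ⊤ hT = T.topIso.inv := by
        simp [Scheme.Opens.topIso]
        rfl
      rw [e]
      exact (ConcreteCategory.bijective_of_isIso _).1
    rw [GIT.IsInvSection]
    apply hinj
    rw [← CommRingCat.comp_apply, ← CommRingCat.comp_apply, Scheme.Hom.appLE_comp_appLE,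
      Scheme.Hom.appLE_comp_appLE]
    exact key
  · refine (Quot.appTop_topIso_inv _ _ s (hle _)).trans ?_
    refine Eq.trans ?_ (Quot.appTop_topIso_inv _ _ s (hle _)).symm
    exact appLE_eq_of_invSection hs j _ _ h₁.symm h₂.symm _ _

omit [IsAffine X.left] [IsAffine Y.left] in
theorem sections_of_piece (hQ : AffQ (actV φ' hinv V) (phiV φ' V)) :
    Function.Injective (φ'.left.app V) ∧
      Set.range (φ'.left.app V) = {f | GIT.IsInvSection a' φ' V f} := by
  have hinjV : Function.Injective V.topIso.inv := (ConcreteCategory.bijective_of_isIso _).1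
  have hinjU : Function.Injective (φ'.left ⁻¹ᵁ V).topIso.inv := (ConcreteCategory.bijective_of_isIso _).1
  refine ⟨fun t₁ t₂ ht => hinjV (hQ.injective ?_), Set.Subset.antisymm ?_ fun s hs => ?_⟩
  · rw [appTop_phiV, appTop_phiV, ht]
  · rintro _ ⟨t, rfl⟩
    exact isInvSection_app hinv V t
  · have h1 : Inv (actV φ' hinv V) ((φ'.left ⁻¹ᵁ V).topIso.inv s) := (inv_piece_iff φ' hinv V s).2 hs
    have h2 : (φ'.left ⁻¹ᵁ V).topIso.inv s ∈ Set.range (phiV φ' V).left.appTop := hQ.range ▸ h1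
    obtain ⟨t, ht⟩ := h2
    obtain ⟨t, rfl⟩ := (ConcreteCategory.bijective_of_isIso V.topIso.inv).2 t
    exact ⟨t, hinjU (by rw [← appTop_phiV]; exact ht)⟩

include ψ hLR h hpb heq hinv in
theorem sections_affine (hV : IsAffineOpen V) :
    Function.Injective (φ'.left.app V) ∧
      Set.range (φ'.left.app V) = {f | GIT.IsInvSection a' φ' V f} :=
  sections_of_piece φ' hinv V (affQ_piece ψ hLR h φ' hpb heq hinv V hV)

end Part

theorem exists_affine_mem {Z : Scheme.{u}} (y : Z) : ∃ V : Z.Opens, IsAffineOpen V ∧ y ∈ V := by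
  obtain ⟨_, ⟨V, hV, rfl⟩, hyV, -⟩ :=
    Z.isBasis_affineOpens.exists_subset_of_mem_open (Set.mem_univ y) isOpen_univ
  exact ⟨V, hV, hyV⟩

section Basis

omit [IsAffine X.left] [IsAffine Y.left]

variable (φ') in
/-- affine opens of the base with affine quotient pieces form a basis -/
def PieceBasis : Prop :=
  ∀ (N : Y'.left.Opens), ∀ y ∈ N, ∃ V : Y'.left.Opens, IsAffineOpen V ∧ y ∈ V ∧ V ≤ N ∧
    IsAffine (totV φ' V).left ∧ AffQ (actV φ' hinv V) (phiV φ' V)

variable {hinv} (hB : PieceBasis φ' hinv)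

include hB in
theorem sections_of_basis (U : Y'.left.Opens) :
    Function.Injective (φ'.left.app U) ∧
      Set.range (φ'.left.app U) = {f | GIT.IsInvSection a' φ' U f} := by
  classical
  let Idx := {V : Y'.left.affineOpens // (V : Y'.left.Opens) ≤ U ∧
    AffQ (actV φ' hinv V.1) (phiV φ' V.1)}
  let W : Idx → Y'.left.Opens := fun V => V.1
  have hcov : U ≤ iSup W := by
    intro x hx
    obtain ⟨V, hV, hxV, hVU, -, hQ⟩ := hB U x hx
    exact TopologicalSpace.Opens.mem_iSup.2 ⟨⟨⟨V, hV⟩, hVU, hQ⟩, hxV⟩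
  have hle : ∀ i : Idx, W i ≤ U := fun i => i.2.1
  have nat : ∀ {A B : Y'.left.Opens} (e : A ≤ B) (t : Γ(Y'.left, B)),
      φ'.left.app A (Y'.left.presheaf.map (homOfLE e).op t) =
        X'.left.presheaf.map (homOfLE (φ'.left.preimage_mono e)).op (φ'.left.app B t) := by
    intro A B e t
    rw [← CommRingCat.comp_apply, ← CommRingCat.comp_apply, Scheme.Hom.naturality]
    rfl
  have inj : ∀ O : Y'.left.Opens, Function.Injective (φ'.left.app O) := by
    intro O t₁ t₂ ht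
    let Idx' := {V : Y'.left.affineOpens // (V : Y'.left.Opens) ≤ O ∧
      AffQ (actV φ' hinv V.1) (phiV φ' V.1)}
    refine TopCat.Sheaf.eq_of_locally_eq' Y'.left.sheaf (fun V : Idx' => (V.1 : Y'.left.Opens)) O
      (fun V => homOfLE V.2.1) ?_ t₁ t₂ fun V => ?_
    · intro x hx
      obtain ⟨V, hV, hxV, hVU, -, hQ⟩ := hB O x hx
      exact TopologicalSpace.Opens.mem_iSup.2 ⟨⟨⟨V, hV⟩, hVU, hQ⟩, hxV⟩
    · refine (sections_of_piece φ' hinv V.1 V.2.2).1 ?_
      exact (nat V.2.1 t₁).trans ((congrArg _ ht).trans (nat V.2.1 t₂).symm)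
  refine ⟨inj U, Set.Subset.antisymm ?_ fun s hs => ?_⟩
  · rintro _ ⟨t, rfl⟩
    exact isInvSection_app hinv U t
  · have hloc : ∀ i : Idx, ∃ t : Γ(Y'.left, W i),
        φ'.left.app (W i) t = X'.left.presheaf.map (homOfLE (φ'.left.preimage_mono (hle i))).op s := by
      intro i
      have hi : GIT.IsInvSection a' φ' (W i)
          (X'.left.presheaf.map (homOfLE (φ'.left.preimage_mono (hle i))).op s) := by
        rw [GIT.IsInvSection, ← CommRingCat.comp_apply, ← CommRingCat.comp_apply, Scheme.Hom.map_appLE,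
          Scheme.Hom.map_appLE]
        exact appLE_eq_of_invSection hs (𝟙 _) _ _ (Category.id_comp _) (Category.id_comp _) _ _
      have : X'.left.presheaf.map (homOfLE (φ'.left.preimage_mono (hle i))).op s ∈
          Set.range (φ'.left.app (W i)) := by
        rw [(sections_of_piece φ' hinv (W i) i.2.2).2]
        exact hi
      exact this
    choose t ht using hloc
    obtain ⟨t₀, ht₀, -⟩ := TopCat.Sheaf.existsUnique_gluing' Y'.left.sheaf W U (fun i => homOfLE (hle i)) hcov t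
      (fun i j => inj _ (by
        refine (nat inf_le_left (t i)).trans ((congrArg _ (ht i)).trans ?_)
        refine Eq.trans ?_ ((congrArg _ (ht j)).symm.trans (nat inf_le_right (t j)).symm)
        rw [← CommRingCat.comp_apply, ← CommRingCat.comp_apply, ← Functor.map_comp, ← Functor.map_comp]
        rfl))
    refine ⟨t₀, TopCat.Sheaf.eq_of_locally_eq' X'.left.sheaf (fun i => φ'.left ⁻¹ᵁ W i) (φ'.left ⁻¹ᵁ U)
      (fun i => homOfLE (φ'.left.preimage_mono (hle i))) ?_ _ _ fun i => ?_⟩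
    · intro x hx
      obtain ⟨i, hi⟩ := TopologicalSpace.Opens.mem_iSup.1 (hcov hx)
      exact TopologicalSpace.Opens.mem_iSup.2 ⟨i, hi⟩
    · exact (nat (hle i) t₀).symm.trans ((congrArg _ (ht₀ i)).trans (ht i))

include ψ hLR hB in
theorem isClosed_image_of_basis {W : Set X'.left} (hW : IsClosed W)
    (hWi : a'.act.left.base '' ((snd G X').left.base ⁻¹' W) ⊆ W) : IsClosed (φ'.left.base '' W) := by
  rw [isClosed_iff_nhds]
  intro y hy
  obtain ⟨V, hV, hyV, -, hVt, hQ⟩ := hB ⊤ y trivial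
  haveI := hVt
  haveI : IsAffine (baseV V).left := hV
  obtain ⟨hcl, -⟩ := hQ.images ψ hLR
    (J := PUnit.{u + 1}) (fun _ => (φ'.left ⁻¹ᵁ V).ι.base ⁻¹' W)
    (fun _ => ⟨hW.preimage (φ'.left ⁻¹ᵁ V).ι.continuous, invariant_preimage φ' hinv V hWi⟩)
  rw [Set.iInter_const] at hcl
  by_contra hy'
  obtain ⟨O, hO, hOC⟩ : ∃ O : Set Y'.left, IsOpen O ∧
      ((phiV φ' V).left.base '' ((φ'.left ⁻¹ᵁ V).ι.base ⁻¹' W))ᶜ = V.ι.base ⁻¹' O := by
    obtain ⟨O, hO, e⟩ := (V.ι.isOpenEmbedding.isInducing.isOpen_iff).1 hcl.isOpen_compl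
    exact ⟨O, hO, e.symm⟩
  have hyO : y ∈ O := by
    show (⟨y, hyV⟩ : V.toScheme) ∈ V.ι.base ⁻¹' O
    refine hOC ▸ ?_
    intro hmem
    have : y ∈ φ'.left.base '' W ∩ (V : Set Y'.left) := image_piece φ' V W ▸ ⟨⟨y, hyV⟩, hmem, rfl⟩
    exact hy' this.1
  obtain ⟨z, ⟨hzO, hzV⟩, hzW⟩ := hy (O ∩ (V : Set Y'.left)) (Filter.inter_mem (hO.mem_nhds hyO) (V.2.mem_nhds hyV))
  have : z ∈ V.ι.base '' ((phiV φ' V).left.base '' ((φ'.left ⁻¹ᵁ V).ι.base ⁻¹' W)) :=
    (image_piece φ' V W).symm ▸ ⟨hzW, hzV⟩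
  obtain ⟨z', hz', rfl⟩ := this
  exact (hOC.symm ▸ hzO : z' ∈ ((phiV φ' V).left.base '' ((φ'.left ⁻¹ᵁ V).ι.base ⁻¹' W))ᶜ) hz'

include ψ hLR hB in
theorem image_iInter_of_basis (J : Type u) (W : J → Set X'.left)
    (hW : ∀ i, IsClosed (W i) ∧ a'.act.left.base '' ((snd G X').left.base ⁻¹' W i) ⊆ W i) :
    φ'.left.base '' (⋂ i, W i) = ⋂ i, φ'.left.base '' W i := by
  refine Set.Subset.antisymm (Set.image_iInter_subset _ _) fun y hy => ?_
  obtain ⟨V, hV, hyV, -, hVt, hQ⟩ := hB ⊤ y trivial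
  haveI := hVt
  haveI : IsAffine (baseV V).left := hV
  obtain ⟨-, he⟩ := hQ.images ψ hLR
    (fun i => (φ'.left ⁻¹ᵁ V).ι.base ⁻¹' W i)
    (fun i => ⟨(hW i).1.preimage (φ'.left ⁻¹ᵁ V).ι.continuous, invariant_preimage φ' hinv V (hW i).2⟩)
  have hy2 : (⟨y, hyV⟩ : V.toScheme) ∈
      ⋂ i, (phiV φ' V).left.base '' ((φ'.left ⁻¹ᵁ V).ι.base ⁻¹' W i) := by
    refine Set.mem_iInter.2 fun i => ?_
    have hm : y ∈ V.ι.base '' ((phiV φ' V).left.base '' ((φ'.left ⁻¹ᵁ V).ι.base ⁻¹' W i)) := by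
      rw [image_piece]
      exact ⟨Set.mem_iInter.1 hy i, hyV⟩
    obtain ⟨z, hz, e⟩ := hm
    exact (V.ι.isOpenEmbedding.injective (e.trans rfl : V.ι.base z = V.ι.base ⟨y, hyV⟩)) ▸ hz
  rw [← he] at hy2
  obtain ⟨x, hx, e⟩ := hy2
  refine ⟨(φ'.left ⁻¹ᵁ V).ι.base x, Set.mem_iInter.2 fun i => Set.mem_iInter.1 hx i, ?_⟩
  exact (morphismRestrict_base_coe φ'.left V x).symm.trans (congrArg Subtype.val e)

include ψ hLR hB in
theorem catQuot_of_basis : GIT.IsCatQuot a' φ' ∧ IsQuotientMap φ'.left.base :=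
  Quot.isCatQuot_of_closed_images hinv (sections_of_basis hB)
    (fun _ hW hWi => isClosed_image_of_basis ψ hLR hB hW hWi) (image_iInter_of_basis ψ hLR hB)

end Basis

include ψ hLR h hpb heq in
theorem pieceBasis : PieceBasis φ' hinv := by
  intro N y hy
  obtain ⟨_, ⟨V, hV, rfl⟩, hyV, hle⟩ := Y'.left.isBasis_affineOpens.exists_subset_of_mem_open hy N.2
  exact ⟨V, hV, hyV, hle, isAffine_totV φ' hpb V hV, affQ_piece ψ hLR h φ' hpb heq hinv V hV⟩

include ψ hLR h hpb heq hinv in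
theorem sections (U : Y'.left.Opens) :
    Function.Injective (φ'.left.app U) ∧
      Set.range (φ'.left.app U) = {f | GIT.IsInvSection a' φ' U f} :=
  sections_of_basis (pieceBasis ψ hLR h hpb heq hinv) U

include ψ hLR h hpb heq hinv in
theorem catQuot : GIT.IsCatQuot a' φ' ∧ IsQuotientMap φ'.left.base :=
  catQuot_of_basis ψ hLR (pieceBasis ψ hLR h hpb heq hinv)

omit hpb heq hinv in
include ψ hLR h in
theorem isUnivCatQuot : GIT.IsUnivCatQuot a φ := by
  refine ⟨(catQuot ψ hLR h (IsPullback.of_id_fst (f := φ)) (a' := a) ?_ h.inv).1,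
    fun X'' Y'' pr' φ'' g' _ hpb' a'' heq' hinv' => (catQuot ψ hLR h hpb' heq' hinv').1⟩
  rw [Category.comp_id, MonoidalCategory.whiskerLeft_id, Category.id_comp]

omit hpb heq hinv in
include ψ hLR h in
theorem isUnivSubmersive : GIT.IsUnivSubmersive φ.left := by
  intro X'' Y'' i₁ i₂ f' hsq
  let Y₁ : Over (Spec (CommRingCat.of k)) := Over.mk (i₂ ≫ Y.hom)
  let X₁ : Over (Spec (CommRingCat.of k)) := Over.mk (i₁ ≫ X.hom)
  let g₁ : Y₁ ⟶ Y := Over.homMk i₂ rfl
  let p₁ : X₁ ⟶ X := Over.homMk i₁ rfl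
  let φ₁ : X₁ ⟶ Y₁ := Over.homMk f' (by
    show f' ≫ i₂ ≫ Y.hom = i₁ ≫ X.hom
    rw [← Category.assoc, hsq.w, Category.assoc, Over.w φ])
  have hpb₁ : IsPullback p₁ φ₁ φ g₁ :=
    IsPullback.of_map (Over.forget _) (Over.OverMorphism.ext hsq.w.symm) hsq.flip
  exact (catQuot ψ hLR h hpb₁ (bcAction_act_fst h.inv hpb₁) (bcAction_invariant h.inv hpb₁)).2

end Groth.Agent.GIT36.AffQuot
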